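import Mathlib

/-!
# Root vectors of a basis: weights, highest root, reflections
-/

set_option autoImplicit false
set_option maxSynthPendingDepth 3

universe u v w

open LieAlgebra LieModule Module

namespace Groth.Agent.AdjVar

variable {ι : Type u} [Fintype ι] {K : Type v} {L : Type w} [Field K] [CharZero K] [IsAlgClosed K]
  [LieRing L] [LieAlgebra K L] [FiniteDimensional K L] [LieAlgebra.IsKilling K L]
  {H : LieSubalgebra K L} [H.IsCartanSubalgebra] (b : LieAlgebra.Basis ι H)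

variable (H) in
/-- The root space of a functional, as a submodule. -/
noncomputable abbrev rs (χ : Dual K H) : Submodule K L := (rootSpace H χ : Submodule K L)

theorem mem_rs {χ : Dual K H} {x : L} : x ∈ rs H χ ↔ x ∈ rootSpace H χ := Iff.rfl

theorem lie_mem_rs {α β : Dual K H} {x y : L} (hx : x ∈ rs H α) (hy : y ∈ rs H β) :
    ⁅x, y⁆ ∈ rs H (α + β) :=
  lie_mem_genWeightSpace_of_mem_genWeightSpace (R := K) (M := L) (χ₁ := ⇑α) (χ₂ := ⇑β) hx hy

theorem lie_h {χ : Dual K H} {x : L} (hx : x ∈ rs H χ) (h : H) : ⁅(h : L), x⁆ = χ h • x :=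
  IsKilling.lie_eq_smul_of_mem_rootSpace (α := ⇑χ) hx h

theorem e_mem (i : ι) : b.e i ∈ rs H (b.baseSupp i) :=
  (mem_genWeightSpace _ _ _).mpr fun ⟨z, hz⟩ ↦ ⟨1, by simp⟩

theorem f_mem (i : ι) : b.f i ∈ rs H (-b.baseSupp i) :=
  (mem_genWeightSpace _ _ _).mpr fun ⟨z, hz⟩ ↦ ⟨1, by simp [← eq_neg_iff_add_eq_zero]⟩

theorem eq_of_mem_rs {χ ψ : Dual K H} {x : L} (hx : x ≠ 0) (h₁ : x ∈ rs H χ) (h₂ : x ∈ rs H ψ) :
    χ = ψ :=
  LinearMap.ext fun h => smul_left_injective K hx ((lie_h h₁ h).symm.trans (lie_h h₂ h))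

theorem finrank_rs {χ : Dual K H} (h0 : χ ≠ 0) (h : rs H χ ≠ ⊥) : Module.finrank K (rs H χ) = 1 :=
  IsKilling.finrank_rootSpace_eq_one
    (⟨⇑χ, fun e => h ((LieSubmodule.toSubmodule_eq_bot _).2 e)⟩ : Weight K H L)
    (fun e => h0 (LinearMap.ext fun x => congrFun e x))

theorem rs_le_of_mem {χ : Dual K H} (h0 : χ ≠ 0) {N : Submodule K L} {x : L} (hx : x ≠ 0)
    (hxχ : x ∈ rs H χ) (hxN : x ∈ N) : rs H χ ≤ N := by
  intro y hy
  have h : rs H χ ≠ ⊥ := fun e => hx ((Submodule.mem_bot K).1 (e ▸ hxχ))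
  obtain ⟨c, hc⟩ := (finrank_eq_one_iff_of_nonzero' (⟨x, hxχ⟩ : rs H χ) (by simpa using hx)).1
    (finrank_rs h0 h) ⟨y, hy⟩
  exact (show c • x = y from congrArg Subtype.val hc) ▸ N.smul_mem c hxN

theorem reflect {χ : Dual K H} (i : ι) (h : rs H χ ≠ ⊥) :
    rs H (χ - χ (b.h' i) • b.baseSupp i) ≠ ⊥ := by
  let β : Weight K H L := ⟨⇑χ, fun e => h ((LieSubmodule.toSubmodule_eq_bot _).2 e)⟩
  let α : Weight K H L := (b.baseSupportEquiv i : H.root).1
  have h' := (IsKilling.reflectRoot α β).genWeightSpace_ne_bot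
  have e : (⇑(IsKilling.reflectRoot α β) : H → K) = ⇑(χ - χ (b.h' i) • b.baseSupp i) := by
    ext x
    have hα : (α : H → K) = b.baseSupp i := congrArg (fun l : Dual K H => (⇑l : H → K)) (b.coe_baseSupportEquiv_apply i)
    show (χ x - χ (IsKilling.coroot α) * α x) = _
    rw [b.coroot_eq_h' i, congrFun hα x]
    rfl
  rw [e] at h'
  exact fun e' => h' ((LieSubmodule.toSubmodule_eq_bot _).1 e')

/-- Positive combinations of the simple roots. -/
def Above (a c : Dual K H) : Prop := ∃ n : ι → ℕ, c = a + ∑ i, n i • b.baseSupp i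

theorem coeff_eq_zero {n : ι → ℕ} (h : ∑ i, n i • b.baseSupp i = 0) : n = 0 := by
  funext i
  have := Fintype.linearIndependent_iff.mp b.linearIndependent_baseSupp ((↑) ∘ n)
    (by simpa [Nat.cast_smul_eq_nsmul] using h) i
  simpa using this

theorem Above.antisymm {a c : Dual K H} (h₁ : Above b a c) (h₂ : Above b c a) : a = c := by
  obtain ⟨n, hn⟩ := h₁
  obtain ⟨m, hm⟩ := h₂
  have : n + m = 0 := coeff_eq_zero b (by
    simp only [Pi.add_apply, add_smul, Finset.sum_add_distrib]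
    conv_lhs at hm => rw [show a = c - ∑ i, n i • b.baseSupp i from eq_sub_of_add_eq hn.symm]
    rw [sub_eq_iff_eq_add, add_assoc] at hm
    rw [add_comm]
    exact left_eq_add.1 hm)
  rw [show n = 0 from funext fun i => (Nat.add_eq_zero_iff.1 (congrFun this i)).1] at hn
  simpa using hn.symm

theorem Above.trans {a c d : Dual K H} (h₁ : Above b a c) (h₂ : Above b c d) : Above b a d := by
  obtain ⟨n, rfl⟩ := h₁
  obtain ⟨m, rfl⟩ := h₂
  exact ⟨n + m, by simp [add_smul, Finset.sum_add_distrib, add_assoc]⟩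

theorem above_add (a : Dual K H) (i : ι) : Above b a (a + b.baseSupp i) := by
  classical
  exact ⟨Pi.single i 1, by simp [Pi.single_apply]⟩

/-- In a submodule stable under the upper Borel there is a weight vector, outside a given submodule,
which all raising operators move into it. -/
theorem exists_max {W : Submodule K L} (hH : ∀ x ∈ H, ∀ w ∈ W, ⁅x, w⁆ ∈ W)
    (he : ∀ i, ∀ w ∈ W, ⁅b.e i, w⁆ ∈ W) {P : Submodule K L} (hP : ¬ W ≤ P) :
    ∃ μ : Dual K H, ∃ v ∈ W, v ∈ rs H μ ∧ v ∉ P ∧ ∀ i, ⁅b.e i, v⁆ ∈ P := by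
  classical
  let N : LieSubmodule K H L := { W with lie_mem := fun {x m} hm => hH x x.2 m hm }
  let S : Set (Dual K H) := {μ | ∃ v ∈ W, v ∈ rs H μ ∧ v ∉ P}
  have hfin : S.Finite := (Set.finite_range (Weight.toLinear K H L)).subset fun μ ⟨v, _, hv, hvP⟩ =>
    ⟨⟨⇑μ, fun e => hvP (by
      have hv' : v ∈ (⊥ : LieSubmodule K H L) := e ▸ (hv : v ∈ genWeightSpace L (⇑μ : H → K))
      rw [(LieSubmodule.mem_bot v).1 hv']; exact P.zero_mem)⟩, LinearMap.ext fun x => rfl⟩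
  have hne : S.Nonempty := by
    by_contra hS
    apply hP
    have hN : (N : Submodule K L) ≤ P := by
      rw [LieModule.eq_iSup_inf_genWeightSpace K H L N, LieSubmodule.iSup_toSubmodule]
      refine iSup_le fun χ => fun v hv => ?_
      by_contra hvP
      exact hS ⟨Weight.toLinear K H L χ, v, hv.1, hv.2, hvP⟩
    exact hN
  haveI := hfin.to_subtype
  let r : S → S → Prop := fun a c => Above b c.1 a.1 ∧ a ≠ c
  haveI : IsTrans S r := ⟨fun a c d h₁ h₂ => ⟨h₂.1.trans b h₁.1, fun e => h₂.2 (Subtype.ext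
    ((Above.antisymm b h₁.1 (e ▸ h₂.1)).trans (congrArg Subtype.val e)))⟩⟩
  haveI : Std.Irrefl r := ⟨fun a h => h.2 rfl⟩
  obtain ⟨⟨μ, v, hvW, hvμ, hvP⟩, -, hmax⟩ :=
    (Finite.wellFounded_of_trans_of_irrefl r).has_min Set.univ ⟨⟨_, hne.choose_spec⟩, trivial⟩
  refine ⟨μ, v, hvW, hvμ, hvP, fun i => ?_⟩
  by_contra hiP
  have hmem : μ + b.baseSupp i ∈ S :=
    ⟨_, he i v hvW, add_comm μ (b.baseSupp i) ▸ lie_mem_rs (e_mem b i) hvμ, hiP⟩
  refine hmax ⟨_, hmem⟩ trivial ⟨above_add b μ i, fun e => ?_⟩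
  exact b.linearIndependent_baseSupp.ne_zero i (add_left_cancel
    ((congrArg Subtype.val e).trans (add_zero μ).symm))

end Groth.Agent.AdjVar
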