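import Groth.Agent.AdjVar.Basic

/-!
# Borel stable subspaces near the highest root
-/

set_option autoImplicit false
set_option maxSynthPendingDepth 3

universe u v w

open LieAlgebra LieModule Module

namespace Groth.Agent.AdjVar

variable {ι : Type u} [Fintype ι] {K : Type v} {L : Type w} [Field K] [CharZero K] [IsAlgClosed K]
  [LieRing L] [LieAlgebra K L] [FiniteDimensional K L]
  {H : LieSubalgebra K L} (b : LieAlgebra.Basis ι H)

/-- The stabiliser of a subspace. -/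
def stab (W : Submodule K L) : LieSubalgebra K L where
  carrier := {x | ∀ w ∈ W, ⁅x, w⁆ ∈ W}
  add_mem' hx hy w hw := by rw [add_lie]; exact W.add_mem (hx w hw) (hy w hw)
  zero_mem' w hw := by rw [zero_lie]; exact W.zero_mem
  smul_mem' c x hx w hw := by rw [smul_lie]; exact W.smul_mem c (hx w hw)
  lie_mem' hx hy w hw := by rw [lie_lie]; exact W.sub_mem (hx _ (hy w hw)) (hy _ (hx w hw))

omit [CharZero K] [IsAlgClosed K] [FiniteDimensional K L] in
theorem mem_stab {W : Submodule K L} {x : L} : x ∈ stab W ↔ ∀ w ∈ W, ⁅x, w⁆ ∈ W := Iff.rfl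

omit [CharZero K] [IsAlgClosed K] [FiniteDimensional K L] in
theorem stable_iff {W : Submodule K L} :
    (∀ x ∈ H.toSubmodule ⊔ (b.borelUpper : Submodule K L), ∀ w ∈ W, ⁅x, w⁆ ∈ W) ↔
      (∀ x ∈ H, ∀ w ∈ W, ⁅x, w⁆ ∈ W) ∧ ∀ i, ∀ w ∈ W, ⁅b.e i, w⁆ ∈ W := by
  refine ⟨fun h => ⟨fun x hx => h x (Submodule.mem_sup_left hx), fun i => h _ (Submodule.mem_sup_right
    (LieSubalgebra.subset_lieSpan ⟨i, rfl⟩))⟩, fun ⟨hH, he⟩ => ?_⟩
  have : H.toSubmodule ⊔ (b.borelUpper : Submodule K L) ≤ (stab W).toSubmodule :=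
    sup_le (fun x hx => hH x hx)
      (show LieSubalgebra.lieSpan K L (Set.range b.e) ≤ stab W from
        LieSubalgebra.lieSpan_le.2 (by rintro _ ⟨i, rfl⟩; exact he i))
  exact fun x hx => this hx

variable [LieAlgebra.IsSimple K L] [H.IsCartanSubalgebra]

omit [Fintype ι] in
theorem mem_of_mem_biSup {χ : Dual K H} {s : Set (Dual K H)} {x : L} (hx : x ≠ 0)
    (hχ : x ∈ rs H χ) (hs : x ∈ ⨆ c ∈ s, rs H c) : χ ∈ s := by
  by_contra h
  have hind : iSupIndep fun c : Dual K H => rs H c :=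
    ((LieSubmodule.iSupIndep_toSubmodule).2 (iSupIndep_genWeightSpace K H L)).comp
      (DFunLike.coe_injective (F := Dual K H))
  exact hx ((Submodule.disjoint_def.1 (hind.disjoint_biSup h)) x hχ hs)

theorem eq_or_of_mem_sup {χ a c : Dual K H} {x : L} (hx : x ≠ 0)
    (hχ : x ∈ rs H χ) (hs : x ∈ rs H a ⊔ rs H c) : χ = a ∨ χ = c := by
  have : χ ∈ ({a, c} : Set (Dual K H)) := mem_of_mem_biSup hx hχ (by rwa [iSup_pair])
  simpa using this

/-- Iterated lowerings of `v`. -/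
inductive Low (v : L) : L → Prop
  | base : Low v v
  | step (i : ι) {w : L} : Low v w → Low v ⁅b.f i, w⁆

theorem above_of_killed {μ : Dual K H} {v : L} (hv0 : v ≠ 0) (hv : v ∈ rs H μ)
    (hk : ∀ i, ⁅b.e i, v⁆ = 0) {χ : Dual K H} (hχ : rs H χ ≠ ⊥) : Above b χ μ := by
  have hwt : ∀ w, Low b v w → ∃ c : Dual K H, Above b c μ ∧ w ∈ rs H c := by
    intro w hw
    induction hw with
    | base => exact ⟨μ, ⟨0, by simp⟩, hv⟩
    | step i _ ih =>
      obtain ⟨c, hc, hwc⟩ := ih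
      refine ⟨-b.baseSupp i + c, ?_, lie_mem_rs (f_mem b i) hwc⟩
      have := above_add b (-b.baseSupp i + c) i
      rw [show -b.baseSupp i + c + b.baseSupp i = c by abel] at this
      exact this.trans b hc
  let M : Submodule K L := Submodule.span K {w | Low b v w}
  have hgen : ∀ x : L, (∀ w, Low b v w → ⁅x, w⁆ ∈ M) → x ∈ stab M := by
    intro x hx m hm
    induction hm using Submodule.span_induction with
    | mem w hw => exact hx w hw
    | zero => rw [lie_zero]; exact M.zero_mem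
    | add p q _ _ hp hq => rw [lie_add]; exact M.add_mem hp hq
    | smul c p _ hp => rw [lie_smul]; exact M.smul_mem c hp
  have hf : ∀ i, b.f i ∈ stab M := fun i => hgen _ fun w hw => Submodule.subset_span (show _ ∈ {w | Low b v w} from Low.step i hw)
  have he : ∀ i, b.e i ∈ stab M := fun i => hgen _ fun w hw => by
    induction hw with
    | base => rw [hk]; exact M.zero_mem
    | @step j w' hw' ih =>
      rw [leibniz_lie]
      refine M.add_mem ?_ (hf j _ ih)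
      by_cases hij : i = j
      · subst hij
        obtain ⟨c, -, hwc⟩ := hwt w' hw'
        rw [(b.sl2 i).lie_e_f, show b.h i = (b.h' i : L) from rfl, lie_h hwc]
        exact M.smul_mem _ (Submodule.subset_span hw')
      · rw [b.lie_e_f_ne i j hij, zero_lie]; exact M.zero_mem
  have hall : stab M = ⊤ := top_le_iff.1 (b.span_ef ▸ LieSubalgebra.lieSpan_le.2 (by
    rintro _ (⟨i, rfl⟩ | ⟨i, rfl⟩)
    exacts [he i, hf i]))
  let I : LieIdeal K L := { M with lie_mem := fun {x m} hm => (hall ▸ trivial : x ∈ stab M) m hm }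
  have hI : I = ⊤ := (LieAlgebra.IsSimple.eq_bot_or_eq_top I).resolve_left fun e => by
    have hvI : v ∈ I := show v ∈ M from Submodule.subset_span (show v ∈ {w | Low b v w} from Low.base)
    rw [e] at hvI
    exact hv0 ((LieSubmodule.mem_bot v).1 hvI)
  obtain ⟨x, hxχ, hx0⟩ := (Submodule.ne_bot_iff _).1 hχ
  refine mem_of_mem_biSup (s := {c | Above b c μ}) hx0 hxχ ?_
  have hx : x ∈ M := by
    have : x ∈ I := hI ▸ LieSubmodule.mem_top x
    exact this
  refine Submodule.span_le.2 (fun w hw => ?_) hx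
  obtain ⟨c, hc, hwc⟩ := hwt w hw
  exact Submodule.mem_iSup_of_mem c (Submodule.mem_iSup_of_mem hc hwc)

variable (ρ : Dual K H) (hρ : rootSpace H ρ ≠ ⊥) (htop : ∀ i, rootSpace H (ρ + b.baseSupp i) = ⊥)
  (j : ι) (hN : ∀ i, ρ (b.h' i) ≠ 0 ↔ i = j) (hj : ρ (b.h' j) = 1)

include hρ in
omit [Fintype ι] in
theorem rs_ne_bot : rs H ρ ≠ ⊥ := fun e => hρ ((LieSubmodule.toSubmodule_eq_bot _).1 e)

include htop in
theorem rs_top (i : ι) : rs H (ρ + b.baseSupp i) = ⊥ :=
  (LieSubmodule.toSubmodule_eq_bot _).2 (htop i)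

include htop in
theorem e_lie_top {x : L} (hx : x ∈ rs H ρ) (i : ι) : ⁅b.e i, x⁆ = 0 := by
  have := lie_mem_rs (e_mem b i) hx
  rw [add_comm, rs_top b ρ htop i, Submodule.mem_bot] at this
  exact this

include hρ htop in
theorem eq_of_killed {μ : Dual K H} {v : L} (hv0 : v ≠ 0) (hv : v ∈ rs H μ)
    (hk : ∀ i, ⁅b.e i, v⁆ = 0) : μ = ρ := by
  obtain ⟨x, hx, hx0⟩ := (Submodule.ne_bot_iff _).1 (rs_ne_bot ρ hρ)
  exact (above_of_killed b hx0 hx (e_lie_top b ρ htop hx)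
    (fun e => hv0 ((Submodule.mem_bot K).1 (e ▸ hv)))).antisymm b
    (above_of_killed b hv0 hv hk (rs_ne_bot ρ hρ))

include hj in
omit [IsAlgClosed K] in
theorem rho_ne_zero : ρ ≠ 0 := fun e => by simp [e] at hj

include hN in
theorem rho_h {i : ι} (hi : i ≠ j) : ρ (b.h' i) = 0 :=
  not_not.1 fun e => hi ((hN i).1 e)

theorem A_diag (i : ι) : b.A i i = 2 := by
  haveI : IsAddTorsionFree L := .of_isTorsionFree K L
  exact b.A_diag_eq_two i

include htop hN in
theorem eq_of_sub_root {i : ι} (h : rs H (ρ - b.baseSupp i) ≠ ⊥) : i = j := by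
  by_contra hi
  have h' := reflect b i h
  rw [LinearMap.sub_apply, rho_h b ρ j hN hi, b.baseSupp_apply_h', A_diag b i] at h'
  refine h' (Eq.trans (congrArg (rs H) ?_) (rs_top b ρ htop i))
  module

include hρ htop hN hj in
/-- `v₀` spanning the highest root space and its only nonzero lowering `v₁`. -/
theorem exists_pair : ∃ v₀ v₁ : L, v₀ ∈ rs H ρ ∧ v₀ ≠ 0 ∧ v₁ ∈ rs H (ρ - b.baseSupp j) ∧ v₁ ≠ 0 ∧
    ⁅b.e j, v₁⁆ = v₀ ∧ (∀ i, i ≠ j → ⁅b.e i, v₁⁆ = 0) ∧ ρ - b.baseSupp j ≠ 0 := by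
  obtain ⟨x, hx, hx0⟩ := (Submodule.ne_bot_iff _).1 (rs_ne_bot ρ hρ)
  have hk := e_lie_top b ρ htop hx
  have he : ⁅b.e j, ⁅b.f j, x⁆⁆ = x := by
    rw [leibniz_lie, hk, lie_zero, add_zero, (b.sl2 j).lie_e_f,
      show b.h j = (b.h' j : L) from rfl, lie_h hx, hj, one_smul]
  refine ⟨x, ⁅b.f j, x⁆, hx, hx0, ?_, fun e => hx0 (by rw [← he, e, lie_zero]), he, fun i hi => ?_,
    fun e => ?_⟩
  · have := lie_mem_rs (f_mem b j) hx
    rwa [show -b.baseSupp j + ρ = ρ - b.baseSupp j by abel] at this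
  · rw [leibniz_lie, hk, lie_zero, add_zero, b.lie_e_f_ne i j hi, zero_lie]
  · have := LinearMap.congr_fun e (b.h' j)
    rw [LinearMap.sub_apply, hj, b.baseSupp_apply_h', A_diag b j] at this
    norm_num at this

include htop hN hj in
theorem third_root {i : ι} (h : rs H (ρ - b.baseSupp j - b.baseSupp i) ≠ ⊥) :
    i ≠ j ∧ b.A i j ≠ 0 ∧ ρ - b.baseSupp j - b.baseSupp i ≠ 0 := by
  set T := ρ - b.baseSupp j - b.baseSupp i with hT
  have hTk : ∀ k, T (b.h' k) = ρ (b.h' k) - b.A j k - b.A i k := fun k => by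
    simp [hT]
  have hij : i ≠ j := by
    rintro rfl
    have h' := reflect b i h
    rw [hTk, hj, A_diag b i] at h'
    refine h' (Eq.trans (congrArg (rs H) ?_) (rs_top b ρ htop i))
    rw [hT]
    push_cast
    module
  refine ⟨hij, fun h0 => hij ?_, fun e => ?_⟩
  · have h' := reflect b j h
    rw [hTk, hj, A_diag b j, h0] at h'
    refine eq_of_sub_root b ρ htop j hN fun e => h' (Eq.trans (congrArg (rs H) ?_) e)
    rw [hT]
    push_cast
    module
  · have hρ' : ρ = b.baseSupp j + b.baseSupp i := by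
      rw [hT, sub_sub, sub_eq_zero] at e; exact e
    have hAji : (b.A j i : K) = -2 := by
      have := hTk i
      rw [e, LinearMap.zero_apply, rho_h b ρ j hN hij, A_diag b i] at this
      push_cast at this
      linear_combination this
    have hne : rs H (b.baseSupp j) ≠ ⊥ := fun e' =>
      (b.sl2 j).e_ne_zero ((Submodule.mem_bot K).1 (e' ▸ e_mem b j))
    have h' := reflect b i hne
    rw [b.baseSupp_apply_h', hAji] at h'
    refine h' (Eq.trans (congrArg (rs H) ?_) (rs_top b ρ htop i))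
    rw [hρ']
    module

include hρ htop hN hj in
theorem pair_le {W : Submodule K L} (hH : ∀ x ∈ H, ∀ w ∈ W, ⁅x, w⁆ ∈ W)
    (he : ∀ i, ∀ w ∈ W, ⁅b.e i, w⁆ ∈ W) (hdim : 2 ≤ finrank K W) :
    rs H ρ ⊔ rs H (ρ - b.baseSupp j) ≤ W := by
  obtain ⟨v₀, v₁, hv₀, hv₀0, hv₁, hv₁0, -, -, hne⟩ := exists_pair b ρ hρ htop j hN hj
  have hρ0 := rho_ne_zero b ρ j hj
  have hW : ¬ W ≤ ⊥ := fun e => by
    rw [le_bot_iff] at e; rw [e, finrank_bot] at hdim; omega
  obtain ⟨μ, v, hvW, hvμ, hv0, hk⟩ := exists_max b hH he hW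
  rw [Submodule.mem_bot] at hv0
  obtain rfl := eq_of_killed b ρ hρ htop hv0 hvμ fun i => (Submodule.mem_bot K).1 (hk i)
  have h0W : rs H μ ≤ W := rs_le_of_mem hρ0 hv0 hvμ hvW
  have hW' : ¬ W ≤ rs H μ := fun e => by
    have := Submodule.finrank_mono e
    rw [finrank_rs hρ0 (rs_ne_bot μ hρ)] at this; omega
  obtain ⟨ν, w, hwW, hwν, hwP, hk'⟩ := exists_max b hH he hW'
  have hw0 : w ≠ 0 := fun e => hwP (e ▸ Submodule.zero_mem _)
  obtain ⟨i, hi⟩ : ∃ i, ⁅b.e i, w⁆ ≠ 0 := by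
    by_contra hall
    push_neg at hall
    exact hwP (eq_of_killed b μ hρ htop hw0 hwν hall ▸ hwν)
  have hμ : b.baseSupp i + ν = μ := eq_of_mem_rs hi (lie_mem_rs (e_mem b i) hwν) (hk' i)
  have hν : ν = μ - b.baseSupp i := by rw [← hμ]; abel
  subst hν
  obtain rfl := eq_of_sub_root b μ htop j hN fun e => hw0 ((Submodule.mem_bot K).1 (e ▸ hwν))
  exact sup_le h0W (rs_le_of_mem hne hw0 hwν hwW)

include hρ htop hN hj in
theorem finrank_pair : finrank K ↥(rs H ρ ⊔ rs H (ρ - b.baseSupp j)) = 2 := by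
  obtain ⟨v₀, v₁, hv₀, hv₀0, hv₁, hv₁0, -, -, hne⟩ := exists_pair b ρ hρ htop j hN hj
  have hd : rs H ρ ⊓ rs H (ρ - b.baseSupp j) = ⊥ := by
    rw [eq_bot_iff]
    rintro x ⟨h₁, h₂⟩
    rw [Submodule.mem_bot]
    by_contra hx
    exact b.linearIndependent_baseSupp.ne_zero j (sub_eq_self.1 (eq_of_mem_rs hx h₁ h₂).symm)
  have := Submodule.finrank_sup_add_finrank_inf_eq (rs H ρ) (rs H (ρ - b.baseSupp j))
  rw [hd, finrank_bot, finrank_rs (rho_ne_zero b ρ j hj) (rs_ne_bot ρ hρ),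
    finrank_rs hne (fun e => hv₁0 ((Submodule.mem_bot K).1 (e ▸ hv₁)))] at this
  omega

include hρ htop hN hj in
theorem pair_stable : (∀ x ∈ H, ∀ w ∈ rs H ρ ⊔ rs H (ρ - b.baseSupp j),
      ⁅x, w⁆ ∈ rs H ρ ⊔ rs H (ρ - b.baseSupp j)) ∧
    ∀ i, ∀ w ∈ rs H ρ ⊔ rs H (ρ - b.baseSupp j), ⁅b.e i, w⁆ ∈ rs H ρ ⊔ rs H (ρ - b.baseSupp j) := by
  obtain ⟨v₀, v₁, hv₀, hv₀0, hv₁, hv₁0, h10, h1, hne⟩ := exists_pair b ρ hρ htop j hN hj
  refine ⟨fun x hx w hw => ?_, fun i w hw => ?_⟩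
  · obtain ⟨p, hp, q, hq, rfl⟩ := Submodule.mem_sup.1 hw
    rw [show x = ((⟨x, hx⟩ : H) : L) from rfl, lie_add, lie_h hp, lie_h hq]
    exact Submodule.add_mem_sup (Submodule.smul_mem _ _ hp) (Submodule.smul_mem _ _ hq)
  · obtain ⟨p, hp, q, hq, rfl⟩ := Submodule.mem_sup.1 hw
    rw [lie_add, e_lie_top b ρ htop hp, zero_add]
    obtain ⟨c, rfl⟩ := Submodule.mem_span_singleton.1
      (rs_le_of_mem hne hv₁0 hv₁ (Submodule.mem_span_singleton_self v₁) hq)
    rw [lie_smul]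
    refine Submodule.smul_mem _ c (Submodule.mem_sup_left ?_)
    by_cases hi : i = j
    · rw [hi, h10]; exact hv₀
    · rw [h1 i hi]; exact Submodule.zero_mem _

include hρ htop hN hj in
theorem structure_three {W : Submodule K L} (hH : ∀ x ∈ H, ∀ w ∈ W, ⁅x, w⁆ ∈ W)
    (he : ∀ i, ∀ w ∈ W, ⁅b.e i, w⁆ ∈ W) (hdim : finrank K W = 3) :
    ∃ (i : ι) (v₀ v₁ v₂ : L) (a : K), i ≠ j ∧ b.A i j ≠ 0 ∧ a ≠ 0 ∧ v₀ ∈ W ∧ v₁ ∈ W ∧ v₂ ∈ W ∧
      ⁅b.e j, v₀⁆ = 0 ∧ ⁅b.e j, v₁⁆ = v₀ ∧ ⁅b.e j, v₂⁆ = 0 ∧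
      ⁅b.e i, v₀⁆ = 0 ∧ ⁅b.e i, v₁⁆ = 0 ∧ ⁅b.e i, v₂⁆ = a • v₁ ∧
      W ≤ Submodule.span K {v₀, v₁, v₂} ∧
      W = rs H ρ ⊔ rs H (ρ - b.baseSupp j) ⊔ rs H (ρ - b.baseSupp j - b.baseSupp i) := by
  obtain ⟨v₀, v₁, hv₀, hv₀0, hv₁, hv₁0, h10, h1, hne⟩ := exists_pair b ρ hρ htop j hN hj
  have hle := pair_le b ρ hρ htop j hN hj hH he (by omega)
  have hP2 := finrank_pair b ρ hρ htop j hN hj
  have hW' : ¬ W ≤ rs H ρ ⊔ rs H (ρ - b.baseSupp j) := fun e => by
    have := Submodule.finrank_mono e; omega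
  obtain ⟨μ, v, hvW, hvμ, hvP, hk⟩ := exists_max b hH he hW'
  have hv0 : v ≠ 0 := fun e => hvP (e ▸ Submodule.zero_mem _)
  obtain ⟨i, hi⟩ : ∃ i, ⁅b.e i, v⁆ ≠ 0 := by
    by_contra hall
    push_neg at hall
    exact hvP (Submodule.mem_sup_left (eq_of_killed b ρ hρ htop hv0 hvμ hall ▸ hvμ))
  have hμ : μ = ρ - b.baseSupp j - b.baseSupp i := by
    rcases eq_or_of_mem_sup hi (lie_mem_rs (e_mem b i) hvμ) (hk i) with h | h
    · have hμ' : μ = ρ - b.baseSupp i := by rw [← h]; abel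
      subst hμ'
      obtain rfl := eq_of_sub_root b ρ htop j hN fun e => hv0 ((Submodule.mem_bot K).1 (e ▸ hvμ))
      exact absurd (Submodule.mem_sup_right hvμ) hvP
    · rw [← h]; abel
  subst hμ
  obtain ⟨hij, hA, hTne⟩ := third_root b ρ htop j hN hj fun e => hv0 ((Submodule.mem_bot K).1 (e ▸ hvμ))
  have hjv : ⁅b.e j, v⁆ = 0 := by
    by_contra h
    have hm := lie_mem_rs (e_mem b j) hvμ
    rw [show b.baseSupp j + (ρ - b.baseSupp j - b.baseSupp i) = ρ - b.baseSupp i by abel] at hm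
    exact hij (eq_of_sub_root b ρ htop j hN fun e => h ((Submodule.mem_bot K).1 (e ▸ hm)))
  have hm := lie_mem_rs (e_mem b i) hvμ
  rw [show b.baseSupp i + (ρ - b.baseSupp j - b.baseSupp i) = ρ - b.baseSupp j by abel] at hm
  obtain ⟨a, ha⟩ := Submodule.mem_span_singleton.1
    (rs_le_of_mem hne hv₁0 hv₁ (Submodule.mem_span_singleton_self v₁) hm)
  have hTle : rs H (ρ - b.baseSupp j - b.baseSupp i) ≤ W := rs_le_of_mem hTne hv0 hvμ hvW
  have hWeq : W = rs H ρ ⊔ rs H (ρ - b.baseSupp j) ⊔ rs H (ρ - b.baseSupp j - b.baseSupp i) := by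
    refine (Submodule.eq_of_le_of_finrank_le (sup_le hle hTle) ?_).symm
    have hlt : rs H ρ ⊔ rs H (ρ - b.baseSupp j) <
        rs H ρ ⊔ rs H (ρ - b.baseSupp j) ⊔ rs H (ρ - b.baseSupp j - b.baseSupp i) :=
      lt_of_le_of_ne le_sup_left fun e => hvP (e ▸ Submodule.mem_sup_right hvμ)
    have := Submodule.finrank_lt_finrank_of_lt hlt
    omega
  refine ⟨i, v₀, v₁, v, a, hij, hA, fun e => hi (by rw [← ha, e, zero_smul]), ?_, ?_, hvW,
    e_lie_top b ρ htop hv₀ j, h10, hjv, e_lie_top b ρ htop hv₀ i, h1 i hij, ha.symm, ?_, hWeq⟩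
  · exact hle (Submodule.mem_sup_left hv₀)
  · exact hle (Submodule.mem_sup_right hv₁)
  · rw [hWeq]
    refine sup_le (sup_le ?_ ?_) ?_
    · exact rs_le_of_mem (rho_ne_zero b ρ j hj) hv₀0 hv₀ (Submodule.subset_span (by simp))
    · exact rs_le_of_mem hne hv₁0 hv₁ (Submodule.subset_span (by simp))
    · exact rs_le_of_mem hTne hv0 hvμ (Submodule.subset_span (by simp))

/-- A quadratic form semi-invariant under a nilpotent shift `v₁ ↦ v₀` and a shift `v₂ ↦ a v₁`. -/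
theorem rank_le_one {M : Type*} [AddCommGroup M] [Module K M] (q : QuadraticForm K M)
    (x y z : M) (hspan : ∀ w, ∃ r s t : K, w = r • x + s • y + t • z)
    (E F : M →ₗ[K] M) (hEx : E x = 0) (hEy : E y = x) (hEz : E z = 0)
    (a : K) (ha : a ≠ 0) (hFx : F x = 0) (hFy : F y = 0) (hFz : F z = a • y)
    (hE : ∃ c : K, ∀ w, QuadraticMap.polar q (E w) w = c * q w)
    (hF : ∃ c : K, ∀ w, QuadraticMap.polar q (F w) w = c * q w) :
    q x = 0 ∧ q y = 0 ∧ QuadraticMap.polar q x y = 0 ∧ QuadraticMap.polar q x z = 0 ∧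
      QuadraticMap.polar q y z = 0 := by
  obtain ⟨c, hc⟩ := hE
  obtain ⟨d, hd⟩ := hF
  let B := fun p r : M => QuadraticMap.polar q p r
  have hself : ∀ p, B p p = 2 * q p := fun p => by
    simp [B, QuadraticMap.polar_self, two_smul, two_mul]
  have hadd : ∀ p r, q (p + r) = q p + q r + B p r := fun p r => by
    simp [B, QuadraticMap.polar]
  have h0 : ∀ p, B 0 p = 0 := fun p => QuadraticMap.polar_zero_left q p
  -- raising `v₁` to `v₀`
  have e1 : 0 = c * q x := by simpa [hEx, h0, B] using hc x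
  have e2 : 0 = c * q z := by simpa [hEz, h0, B] using hc z
  have e3 : B x y = c * q y := by simpa [hEy, B] using hc y
  have e4 : B x y + 2 * q x = c * (q x + q y + B x y) := by
    have := hc (y + x)
    rw [map_add, hEy, hEx, add_zero, QuadraticMap.polar_add_right] at this
    rw [add_comm y x, hadd] at this
    linear_combination this - hself x
  have e5 : B x y + B x z = c * (q y + q z + B y z) := by
    have := hc (y + z)
    rw [map_add, hEy, hEz, add_zero, QuadraticMap.polar_add_right, hadd] at this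
    exact this
  have e6 : 0 = c * (q x + q z + B x z) := by
    have := hc (x + z)
    rw [map_add, hEx, hEz, add_zero, hadd, QuadraticMap.polar_zero_left] at this
    exact this
  have hx : q x = 0 ∧ B x y = 0 ∧ B x z = 0 := by
    rcases eq_or_ne c 0 with rfl | hc0
    · simp only [zero_mul] at e3 e4 e5
      refine ⟨?_, e3, by linear_combination e5 - e3⟩
      linear_combination (e4 - e3) / 2
    · have q0 : q x = 0 := (mul_eq_zero.1 e1.symm).resolve_left hc0
      have q2 : q z = 0 := (mul_eq_zero.1 e2.symm).resolve_left hc0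
      have b02 : B x z = 0 := by
        have := (mul_eq_zero.1 e6.symm).resolve_left hc0
        linear_combination this - q0 - q2
      have b01 : B x y = 0 := by
        refine (mul_eq_zero.1 (?_ : c * B x y = 0)).resolve_left hc0
        linear_combination -e4 + e3 + (2 - c) * q0
      exact ⟨q0, b01, b02⟩
  obtain ⟨qx, bxy, bxz⟩ := hx
  -- raising `v₂` to `v₁`
  have f1 : 0 = d * q y := by simpa [hFy, h0, B] using hd y
  have f2 : a * B y z = d * q z := by simpa [hFz, B] using hd z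
  have f3 : a * (B y z + 2 * q y) = d * (q y + q z + B y z) := by
    have := hd (y + z)
    rw [map_add, hFy, hFz, zero_add, QuadraticMap.polar_smul_left, QuadraticMap.polar_add_right,
      hadd, smul_eq_mul] at this
    linear_combination this - a * hself y
  rcases eq_or_ne d 0 with rfl | hd0
  · simp only [zero_mul] at f2 f3
    have byz : B y z = 0 := (mul_eq_zero.1 f2).resolve_left ha
    refine ⟨qx, ?_, bxy, bxz, byz⟩
    have : a * (2 * q y) = 0 := by linear_combination f3 - f2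
    simpa [ha] using this
  · have qy : q y = 0 := (mul_eq_zero.1 f1.symm).resolve_left hd0
    refine ⟨qx, qy, bxy, bxz, ?_⟩
    refine (mul_eq_zero.1 (?_ : d * B y z = 0)).resolve_left hd0
    linear_combination -f3 + f2 + (2 * a - d) * qy

end Groth.Agent.AdjVar
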